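import Groth.Agent.S2069
import Groth.Agent.S2498
import Groth.Agent.FDescent.QuasiFlat
import Mathlib.RingTheory.Support
import Mathlib.RingTheory.Ideal.AssociatedPrime.Basic

/-!
# Associated primes, supports and lengths of flat tensor products over local rings
-/

set_option autoImplicit false
set_option linter.style.haveILetI false
set_option backward.isDefEq.respectTransparency false

universe u

open IsLocalRing TensorProduct

namespace Groth.Agent.AssTensor5

section semi

variable {L L' : Type u} [CommRing L] [CommRing L'] {X X' : Type u} [AddCommGroup X] [Module L X]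
  [AddCommGroup X'] [Module L' X'] (σ : L' →+* L) (hσ : Function.Surjective σ) (e : X' ≃+ X)
  (he : ∀ (r : L') (x : X'), e (r • x) = σ r • e x)

include hσ he in
theorem maximal_mem_ass_semi [IsLocalRing L] [IsLocalRing L'] :
    maximalIdeal L' ∈ associatedPrimes L' X' ↔ maximalIdeal L ∈ associatedPrimes L X := by
  have hm : maximalIdeal L' = (maximalIdeal L).comap σ :=
    (eq_maximalIdeal (Ideal.comap_isMaximal_of_surjective σ hσ)).symm
  have hc : ∀ x : X', Submodule.colon (⊥ : Submodule L' X') {x} =
      (Submodule.colon (⊥ : Submodule L X) {e x}).comap σ := fun x => by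
    ext r
    rw [Ideal.mem_comap, Submodule.mem_colon_singleton, Submodule.mem_colon_singleton, Submodule.mem_bot,
      Submodule.mem_bot, ← he, EmbeddingLike.map_eq_zero_iff]
  constructor
  · rintro ⟨-, x, hx⟩
    refine ⟨inferInstance, e x, ?_⟩
    rw [hc, ← Ideal.comap_radical, hm] at hx
    exact Ideal.comap_injective_of_surjective σ hσ hx
  · rintro ⟨-, x, hx⟩
    refine ⟨inferInstance, e.symm x, ?_⟩
    rw [hc, e.apply_symm_apply, ← Ideal.comap_radical, hm, hx]

include hσ he in
theorem length_semi : Module.length L' X' = Module.length L X := by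
  letI : Algebra L' L := σ.toAlgebra
  letI : Module L' X := Module.compHom X σ
  haveI : IsScalarTower L' L X := .of_algebraMap_smul fun _ _ => rfl
  rw [← Module.length_eq_of_surjective (S := L') (R := L) (M := X) hσ]
  exact LinearEquiv.length_eq ({ e with map_smul' := fun r x => he r x } : X' ≃ₗ[L'] X)

end semi

variable {R S : Type u} [CommRing R] [CommRing S] [Algebra R S] [IsLocalRing R] [IsLocalRing S]
  [IsLocalHom (algebraMap R S)]
  {M N : Type u} [AddCommGroup M] [Module R M] [AddCommGroup N] [Module S N] [Module R N] [IsScalarTower R S N]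

/-- The quotient by the closed fibre ideal. -/
abbrev fibQuot (R : Type u) {S : Type u} [CommRing R] [CommRing S] [Algebra R S] [IsLocalRing R] (N : Type u)
    [AddCommGroup N] [Module S N] : Type u :=
  N ⧸ (maximalIdeal R).map (algebraMap R S) • (⊤ : Submodule S N)

omit [IsLocalRing R] [IsLocalRing S] [IsLocalHom (algebraMap R S)] in
/-- Elements outside `p` are regular on `N/pN` for flat `N`. -/
theorem smul_regular_quot [Module.Flat R N] (p : Ideal R) [p.IsPrime] {a : R} (ha : a ∉ p)
    {x : N ⧸ p.map (algebraMap R S) • (⊤ : Submodule S N)} (hx : algebraMap R S a • x = 0) : x = 0 := by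
  obtain ⟨n, rfl⟩ := Submodule.Quotient.mk_surjective _ x
  rw [← Submodule.Quotient.mk_smul, Submodule.Quotient.mk_eq_zero, IsScalarTower.algebraMap_smul,
    ← Submodule.restrictScalars_mem R, Submodule.restrictScalars_map_smul_eq, Submodule.restrictScalars_top] at hx
  rw [Submodule.Quotient.mk_eq_zero, ← Submodule.restrictScalars_mem R, Submodule.restrictScalars_map_smul_eq,
    Submodule.restrictScalars_top,
    ← Submodule.Quotient.mk_eq_zero]
  let μ : (R ⧸ p) →ₗ[R] R ⧸ p := a • LinearMap.id
  have hμ : Function.Injective μ := by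
    rw [injective_iff_map_eq_zero]
    intro y hy
    obtain ⟨y, rfl⟩ := Ideal.Quotient.mk_surjective y
    have h' : Ideal.Quotient.mk p (a * y) = 0 := hy
    rw [Ideal.Quotient.eq_zero_iff_mem] at h' ⊢
    exact (Ideal.IsPrime.mem_or_mem inferInstance h').resolve_left ha
  have hinj := Module.Flat.rTensor_preserves_injective_linearMap (M := N) μ hμ
  let e := TensorProduct.quotTensorEquivQuotSMul N p
  have key : ∀ z, e (μ.rTensor N z) = a • e z := fun z => by
    rw [← map_smul]
    congr 1
  obtain ⟨z, hz⟩ := e.surjective (Submodule.Quotient.mk n)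
  rw [← hz]
  have h0 : μ.rTensor N z = 0 := e.injective (by
    rw [key, hz, map_zero, ← Submodule.Quotient.mk_smul, Submodule.Quotient.mk_eq_zero]
    exact hx)
  rw [hinj (h0.trans (map_zero _).symm), map_zero]

/-- The maximal ideal in the associated primes of a flat tensor product. -/
theorem maximal_mem_ass_tensor_iff [IsNoetherianRing R] [Module.Flat R N] :
    maximalIdeal S ∈ associatedPrimes S (N ⊗[R] M) ↔
      maximalIdeal R ∈ associatedPrimes R M ∧ maximalIdeal S ∈ associatedPrimes S (fibQuot R (S := S) N) := by
  rw [S2069.result, Set.mem_iUnion₂]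
  refine ⟨?_, fun h => ⟨_, h.1, h.2⟩⟩
  rintro ⟨p, hp, hq⟩
  haveI := hp.1
  obtain rfl : p = maximalIdeal R := by
    refine le_antisymm (le_maximalIdeal hp.1.ne_top) fun a ha => ?_
    by_contra hap
    obtain ⟨-, x, hx⟩ := hq
    have hx0 : x ≠ 0 := by
      rintro rfl
      refine (inferInstance : (maximalIdeal S).IsPrime).ne_top ?_
      rw [hx, eq_top_iff]
      exact fun r _ => Ideal.le_radical (Submodule.mem_colon_singleton.2 (by simp))
    have ha' : algebraMap R S a ∈ maximalIdeal S := by
      rw [IsLocalRing.mem_maximalIdeal, mem_nonunits_iff]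
      exact fun hu => (IsLocalRing.mem_maximalIdeal a).1 ha (isUnit_of_map_unit (algebraMap R S) a hu)
    rw [hx] at ha'
    obtain ⟨k, hk⟩ := ha'
    rw [Submodule.mem_colon_singleton, Submodule.mem_bot, ← map_pow] at hk
    exact hx0 (smul_regular_quot p (fun h => hap (Ideal.IsPrime.mem_of_pow_mem inferInstance k h)) hk)
  exact ⟨hp, hq⟩

theorem faithfullyFlat_of_nontrivial [Module.Finite S N] [Module.Flat R N] [Nontrivial N] :
    Module.FaithfullyFlat R N := by
  refine ⟨fun {m} hm ht => ?_⟩
  obtain rfl := IsLocalRing.eq_maximalIdeal hm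
  have h1 : (⊤ : Submodule S N) ≤ (maximalIdeal R).map (algebraMap R S) • ⊤ := fun n _ => by
    rw [← Submodule.restrictScalars_mem R, Submodule.restrictScalars_map_smul_eq, Submodule.restrictScalars_top, ht]
    trivial
  exact (top_ne_bot : (⊤ : Submodule S N) ≠ ⊥) (Submodule.eq_bot_of_le_smul_of_le_jacobson_bot _ _
    Module.Finite.fg_top h1 ((le_maximalIdeal (map_maximalIdeal_lt_top (algebraMap R S)).ne).trans
      (jacobson_eq_maximalIdeal ⊥ bot_ne_top).ge))

theorem nontrivial_fibQuot_iff [Module.Finite S N] :
    Nontrivial (fibQuot R (S := S) N) ↔ Nontrivial N := by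
  rw [Submodule.Quotient.nontrivial_iff]
  constructor
  · intro h
    by_contra hn
    rw [not_nontrivial_iff_subsingleton] at hn
    exact h (Subsingleton.elim _ _)
  · intro hn ht
    exact (top_ne_bot : (⊤ : Submodule S N) ≠ ⊥) (Submodule.eq_bot_of_le_smul_of_le_jacobson_bot _ _
      Module.Finite.fg_top ht.ge ((le_maximalIdeal (map_maximalIdeal_lt_top (algebraMap R S)).ne).trans
        (jacobson_eq_maximalIdeal ⊥ bot_ne_top).ge))

theorem nontrivial_tensor_iff [Module.Finite S N] [Module.Flat R N] :
    Nontrivial (N ⊗[R] M) ↔ Nontrivial N ∧ Nontrivial M := by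
  constructor
  · intro h
    constructor <;> by_contra hn <;> rw [not_nontrivial_iff_subsingleton] at hn <;>
      exact false_of_nontrivial_of_subsingleton (N ⊗[R] M)
  · rintro ⟨hN, hM⟩
    haveI := faithfullyFlat_of_nontrivial (R := R) (S := S) (N := N)
    exact (Module.FaithfullyFlat.nontrivial_tensorProduct_iff_right (R := R) (M := N) (N := M)).mpr hM

theorem length_tensor [Module.Finite S N] [Module.Flat R N] [Nontrivial N]
    (h : IsFiniteLength S (fibQuot R (S := S) N)) :
    Module.length S (N ⊗[R] M) = Module.length R M * Module.length S (fibQuot R (S := S) N) :=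
  haveI := faithfullyFlat_of_nontrivial (R := R) (S := S) (N := N)
  S2498.result M N h

/-- Going down along the support of a flat finite module. -/
theorem exists_mem_support_over [Module.Finite S N] [Module.Flat R N] [Nontrivial N] (p : PrimeSpectrum R) :
    ∃ q : PrimeSpectrum S, q ∈ Module.support S N ∧ PrimeSpectrum.comap (algebraMap R S) q = p := by
  haveI := faithfullyFlat_of_nontrivial (R := R) (S := S) (N := N)
  let κ := p.asIdeal.ResidueField
  haveI : Nontrivial (N ⊗[R] κ) :=
    (Module.FaithfullyFlat.nontrivial_tensorProduct_iff_right (R := R) (M := N) (N := κ)).mpr inferInstance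
  let T := S ⊗[R] κ
  haveI : Nontrivial (T ⊗[S] N) :=
    ((TensorProduct.comm S T N).trans
      (AlgebraTensorModule.cancelBaseChange R S S N κ)).toEquiv.nontrivial
  obtain ⟨Q, hQ, hle⟩ := Ideal.exists_le_maximal (Module.annihilator T (T ⊗[S] N)) (by
    rw [Ne, Module.annihilator_eq_top_iff]
    exact not_subsingleton _)
  refine ⟨⟨Q.comap (algebraMap S T), hQ.isPrime.comap _⟩, Module.mem_support_iff_of_finite.2 fun s hs => ?_,
    PrimeSpectrum.ext (Ideal.ext fun a => ?_)⟩
  · refine Ideal.mem_comap.2 (hle (Module.mem_annihilator.2 fun w => ?_))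
    induction w using TensorProduct.induction_on with
    | zero => simp
    | add u v hu hv => rw [smul_add, hu, hv, add_zero]
    | tmul t n =>
      rw [algebraMap_smul, ← TensorProduct.tmul_smul, Module.mem_annihilator.1 hs, TensorProduct.tmul_zero]
  · show algebraMap S T (algebraMap R S a) ∈ Q ↔ a ∈ p.asIdeal
    rw [show algebraMap S T (algebraMap R S a) = Algebra.TensorProduct.includeRight (algebraMap R κ a) from
      (IsScalarTower.algebraMap_apply R S T a).symm.trans
        ((Algebra.TensorProduct.includeRight : κ →ₐ[R] T).commutes a).symm]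
    constructor
    · intro h
      by_contra ha
      refine hQ.ne_top (Ideal.eq_top_of_isUnit_mem _ h ((IsUnit.mk0 _ fun h0 => ha ?_).map _))
      exact Ideal.algebraMap_residueField_eq_zero.1 h0
    · intro ha
      rw [Ideal.algebraMap_residueField_eq_zero.2 ha, map_zero]
      exact zero_mem _

end Groth.Agent.AssTensor5
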