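import Mathlib.AlgebraicGeometry.Fiber
import Mathlib.AlgebraicGeometry.Noetherian
import Mathlib.AlgebraicGeometry.PullbackCarrier
import Mathlib.RingTheory.IsTensorProduct
import Groth.Agent.QCoh.PullbackBC
import Mathlib.AlgebraicGeometry.Morphisms.Flat

/-!
# Fibres over points of locally Noetherian schemes are locally Noetherian
-/

set_option autoImplicit false
set_option linter.style.haveILetI false
set_option backward.isDefEq.respectTransparency false
set_option backward.isDefEq.respectTransparency.types false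

universe u

open AlgebraicGeometry CategoryTheory CategoryTheory.Limits TensorProduct IsLocalRing

namespace Groth.Agent.AssTensor5

/-- A base change along a localization of a quotient of the base is Noetherian. -/
theorem isNoetherianRing_of_isPushout {A B K C : Type u} [CommRing A] [CommRing B] [CommRing K] [CommRing C]
    [Algebra A B] [Algebra A K] [Algebra B C] [Algebra K C] [Algebra A C] [IsScalarTower A B C]
    [IsScalarTower A K C] [Algebra.IsPushout A K B C] [IsNoetherianRing B]
    (hK : ∀ c : K, ∃ a s : A, IsUnit (algebraMap A K s) ∧ c * algebraMap A K s = algebraMap A K a) :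
    IsNoetherianRing C := by
  let S : Submonoid B := ((IsUnit.submonoid K).comap (algebraMap A K).toMonoidHom).map (algebraMap A B).toMonoidHom
  have hS : ∀ x : S, IsUnit (algebraMap B C x) := by
    rintro ⟨_, a, ha, rfl⟩
    show IsUnit (algebraMap B C (algebraMap A B a))
    rw [← IsScalarTower.algebraMap_apply A B C, IsScalarTower.algebraMap_apply A K C]
    exact (show IsUnit (algebraMap A K a) from ha).map _
  let φ : Localization S →+* C := IsLocalization.lift (g := algebraMap B C) hS
  haveI : IsNoetherianRing (Localization S) := IsLocalization.isNoetherianRing S _ inferInstance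
  refine isNoetherianRing_of_surjective _ _ φ fun z => ?_
  have key : ∀ t : K ⊗[A] B, ∃ (b : B) (s : A), IsUnit (algebraMap A K s) ∧
      Algebra.IsPushout.equiv A K B C t * algebraMap A C s = algebraMap B C b := by
    intro t
    induction t using TensorProduct.induction_on with
    | zero => exact ⟨0, 1, by simp, by simp⟩
    | tmul c b =>
      obtain ⟨a, s, hs, e⟩ := hK c
      refine ⟨algebraMap A B a * b, s, hs, ?_⟩
      rw [Algebra.IsPushout.equiv_tmul, IsScalarTower.algebraMap_apply A K C s, mul_right_comm, ← map_mul, e,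
        map_mul, ← IsScalarTower.algebraMap_apply, ← IsScalarTower.algebraMap_apply]
    | add u v hu hv =>
      obtain ⟨b₁, s₁, h₁, e₁⟩ := hu
      obtain ⟨b₂, s₂, h₂, e₂⟩ := hv
      refine ⟨b₁ * algebraMap A B s₂ + b₂ * algebraMap A B s₁, s₁ * s₂, by rw [map_mul]; exact h₁.mul h₂, ?_⟩
      rw [map_add, map_add, map_mul, map_mul, map_mul, ← IsScalarTower.algebraMap_apply,
        ← IsScalarTower.algebraMap_apply, ← e₁, ← e₂]
      ring
  obtain ⟨b, s, hs, e⟩ := key ((Algebra.IsPushout.equiv A K B C).symm z)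
  rw [AlgEquiv.apply_symm_apply] at e
  refine ⟨IsLocalization.mk' (Localization S) b ⟨algebraMap A B s, Submonoid.mem_map_of_mem (algebraMap A B).toMonoidHom
    (show s ∈ (IsUnit.submonoid K).comap (algebraMap A K).toMonoidHom from hs)⟩, ?_⟩
  rw [IsLocalization.lift_mk'_spec, mul_comm, ← IsScalarTower.algebraMap_apply]
  exact e.symm

theorem exists_frac_residueField {Y : Scheme.{u}} {V : Y.Opens} (hV : IsAffineOpen V) {y : Y} (hy : y ∈ V)
    (c : Y.residueField y) : ∃ a s : Γ(Y, V), IsUnit (Y.evaluation V y hy s) ∧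
      c * Y.evaluation V y hy s = Y.evaluation V y hy a := by
  obtain ⟨c, rfl⟩ := Y.residue_surjective y c
  letI : Algebra Γ(Y, V) (Y.presheaf.stalk y) := (Y.presheaf.germ V y hy).hom.toAlgebra
  haveI := hV.isLocalization_stalk ⟨y, hy⟩
  obtain ⟨⟨a, s⟩, e⟩ := IsLocalization.surj (hV.primeIdealOf ⟨y, hy⟩).asIdeal.primeCompl c
  refine ⟨a, s, ?_, ?_⟩
  · exact (IsLocalization.map_units (Y.presheaf.stalk y) s).map (Y.residue y).hom
  · show Y.residue y c * Y.residue y (Y.presheaf.germ V y hy s) = Y.residue y (Y.presheaf.germ V y hy a)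
    rw [← map_mul]
    exact congrArg _ e

/-- The fibres of a morphism out of a locally Noetherian scheme are locally Noetherian. -/
theorem isLocallyNoetherian_fiber {X Y : Scheme.{u}} (f : X ⟶ Y) [IsLocallyNoetherian X] (y : Y) :
    IsLocallyNoetherian (f.fiber y) := by
  obtain ⟨V, hV, hyV, -⟩ := exists_isAffineOpen_mem_and_subset (x := y) (U := ⊤) trivial
  let T := Spec (Y.residueField y)
  let h : T ⟶ Y := Y.fromSpecResidueField y
  have hc : IsPullback (f.fiberι y) (f.fiberToSpecResidueField y) f h := IsPullback.of_hasPullback _ _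
  have hT : (⊤ : T.Opens) ≤ h ⁻¹ᵁ V := fun t _ => by
    show h t ∈ V
    rw [Scheme.fromSpecResidueField_apply]
    exact hyV
  have hK : ∀ c : Γ(T, ⊤), ∃ a s : Γ(Y, V), IsUnit (h.appLE V ⊤ hT s) ∧
      c * h.appLE V ⊤ hT s = h.appLE V ⊤ hT a := by
    intro c
    have he : ∀ a, (Scheme.ΓSpecIso (Y.residueField y)).hom (h.appLE V ⊤ hT a) = Y.evaluation V y hyV a := fun a => by
      have h1 : h.appLE V ⊤ hT ≫ (Scheme.ΓSpecIso (Y.residueField y)).hom = Y.evaluation V y hyV := by
        show (Spec.map (Y.residue y) ≫ Y.fromSpecStalk y).appLE V ⊤ hT ≫ _ = Y.presheaf.germ V y hyV ≫ Y.residue y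
        rw [Scheme.Hom.comp_appLE, Scheme.fromSpecStalk_app hyV]
        simp only [Category.assoc]
        rw [Scheme.Hom.map_appLE_assoc]
        have h3 : ∀ e, (Spec.map (Y.residue y)).appLE ⊤ ⊤ e = (Spec.map (Y.residue y)).appTop := fun e =>
          Scheme.Hom.appLE_eq_app _
        erw [h3, Scheme.ΓSpecIso_naturality, Iso.inv_hom_id_assoc]
      exact congr($(h1).hom a)
    obtain ⟨a, s, hs, e⟩ := exists_frac_residueField hV hyV ((Scheme.ΓSpecIso (Y.residueField y)).hom c)
    refine ⟨a, s, ?_, ?_⟩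
    · refine (isUnit_map_iff (Scheme.ΓSpecIso (Y.residueField y)).commRingCatIsoToRingEquiv _).1 ?_
      show IsUnit ((Scheme.ΓSpecIso (Y.residueField y)).hom (h.appLE V ⊤ hT s))
      rw [he]
      exact hs
    · apply (Scheme.ΓSpecIso (Y.residueField y)).commRingCatIsoToRingEquiv.injective
      show (Scheme.ΓSpecIso (Y.residueField y)).hom _ = (Scheme.ΓSpecIso (Y.residueField y)).hom _
      rw [map_mul, he, he]
      exact e
  let ι := {U : X.Opens // IsAffineOpen U ∧ U ≤ f ⁻¹ᵁ V}
  let W : ι → (f.fiber y).Opens := fun U => f.fiberι y ⁻¹ᵁ U.1 ⊓ f.fiberToSpecResidueField y ⁻¹ᵁ ⊤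
  have hW : ∀ U, IsAffineOpen (W U) := fun U => by
    haveI : IsAffine _ := hV
    haveI : IsAffine _ := isAffineOpen_top T
    haveI : IsAffine _ := U.2.1
    exact .of_isIso (Scheme.Hom.isPullback_resLE hc hT U.2.2 (UY := W U) rfl).isoPullback.hom
  refine isLocallyNoetherian_of_affine_cover (S := fun U : ι => ⟨W U, hW U⟩) ?_ fun U => ?_
  · refine eq_top_iff.2 fun w _ => ?_
    have hwV : f.fiberι y w ∈ f ⁻¹ᵁ V := by
      show f (f.fiberι y w) ∈ V
      have : f.fiberι y w ∈ Set.range (f.fiberι y) := ⟨w, rfl⟩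
      rw [Scheme.Hom.range_fiberι] at this
      rw [show f (f.fiberι y w) = y from this]
      exact hyV
    obtain ⟨U, hU, hwU, hUV⟩ := exists_isAffineOpen_mem_and_subset hwV
    exact TopologicalSpace.Opens.mem_iSup.2 ⟨⟨U, hU, hUV⟩, hwU, trivial⟩
  · have hpo := (isIso_pushoutSection_iff hc hT U.2.2 (UY := W U) rfl).mp
      (isIso_pushoutSection_of_isAffineOpen hc hT U.2.2 rfl hV (isAffineOpen_top T) U.2.1)
    letI : Algebra Γ(Y, V) Γ(X, U.1) := (f.appLE V U.1 U.2.2).hom.toAlgebra
    letI : Algebra Γ(Y, V) Γ(T, ⊤) := (h.appLE V ⊤ hT).hom.toAlgebra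
    letI : Algebra Γ(X, U.1) Γ(f.fiber y, W U) := ((f.fiberι y).appLE U.1 (W U) inf_le_left).hom.toAlgebra
    letI : Algebra Γ(T, ⊤) Γ(f.fiber y, W U) :=
      ((f.fiberToSpecResidueField y).appLE ⊤ (W U) inf_le_right).hom.toAlgebra
    letI : Algebra Γ(Y, V) Γ(f.fiber y, W U) :=
      (f.appLE V U.1 U.2.2 ≫ (f.fiberι y).appLE U.1 (W U) inf_le_left).hom.toAlgebra
    haveI : IsScalarTower Γ(Y, V) Γ(X, U.1) Γ(f.fiber y, W U) := .of_algebraMap_eq fun _ => rfl
    haveI : IsScalarTower Γ(Y, V) Γ(T, ⊤) Γ(f.fiber y, W U) := .of_algebraMap_eq fun r => congr($(hpo.w).hom r)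
    haveI : Algebra.IsPushout Γ(Y, V) Γ(T, ⊤) Γ(X, U.1) Γ(f.fiber y, W U) :=
      CommRingCat.isPushout_iff_isPushout.mp hpo.flip
    haveI : IsNoetherianRing Γ(X, U.1) := IsLocallyNoetherian.component_noetherian ⟨U.1, U.2.1⟩
    exact isNoetherianRing_of_isPushout (A := Γ(Y, V)) (K := Γ(T, ⊤)) (B := Γ(X, U.1)) hK

end Groth.Agent.AssTensor5
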