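import Groth.Agent.AssTensor5.Sch
import Groth.Agent.AssTensor5.Fibre
import Groth.Agent.FibDim.Basic
import Groth.Agent.ZClosLib.CohDescent
import Groth.Agent.QCoh.TensorSections

/-!
# Point-level consequences
-/

set_option autoImplicit false
set_option linter.style.haveILetI false
set_option backward.isDefEq.respectTransparency false
set_option backward.isDefEq.respectTransparency.types false

universe u

open AlgebraicGeometry CategoryTheory

namespace Groth.Agent.AssTensor5

variable {X Y : Scheme.{u}} {f : X ⟶ Y} {E : Y.Modules} {F : X.Modules}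

theorem mem_ass_tensE_fiberι [IsLocallyNoetherian Y] (hflat : FlatMod.IsFlatOver f F) {s : Y}
    (w : ↥(f.fiber s)) :
    f.fiberι s w ∈ AssSch.Ass (tensE f E F) ↔
      s ∈ AssSch.Ass E ∧ w ∈ AssSch.Ass ((Scheme.Modules.pullback (f.fiberι s)).obj F) := by
  rw [mem_ass_tensE_iff (hflat _), mem_ass_fiber_iff F w rfl, FibDim.fiber_apply_fiberι f w]

theorem mem_ass_tensE_asFiber [IsLocallyNoetherian Y] (hflat : FlatMod.IsFlatOver f F) (x : X) :
    x ∈ AssSch.Ass (tensE f E F) ↔ f x ∈ AssSch.Ass E ∧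
      f.asFiber x ∈ AssSch.Ass ((Scheme.Modules.pullback (f.fiberι (f x))).obj F) := by
  rw [mem_ass_tensE_iff (hflat _), mem_ass_fiber_iff F (f.asFiber x) (f.fiberι_asFiber x)]

theorem exists_fiber_point {x : X} {s : Y} (h : f x = s) : ∃ w, f.fiberι s w = x := by
  have : x ∈ Set.range (f.fiberι s) := by rw [Scheme.Hom.range_fiberι]; exact h
  exact this

/-- A point of the support has an associated point of its fibre generizing it. -/
theorem exists_ass_fiber [IsLocallyNoetherian X] (hF : Coh.IsCoh F) {x : X} (hx : x ∈ CohB1.support F)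
    {s : Y} (hs : f x = s) :
    ∃ w ∈ AssSch.Ass ((Scheme.Modules.pullback (f.fiberι s)).obj F), f.fiberι s w ⤳ x := by
  haveI := isLocallyNoetherian_fiber f s
  obtain ⟨a, rfl⟩ := exists_fiber_point hs
  obtain ⟨w, hw, hwa⟩ := AssLib.exists_ass_specializes (QCoh.isQCoh_pullback _ hF.1)
    ((mem_support_fiber_iff hF.2 a rfl).2 hx)
  exact ⟨w, hw, (FibDim.fiberι_specializes_iff f _ _).2 hwa⟩

theorem mem_support_of_ass_fiber [IsLocallyNoetherian X] (hF : Coh.IsCoh F) {s : Y}
    {w : ↥(f.fiber s)} (hw : w ∈ AssSch.Ass ((Scheme.Modules.pullback (f.fiberι s)).obj F)) :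
    f.fiberι s w ∈ CohB1.support F :=
  haveI := isLocallyNoetherian_fiber f s
  (mem_support_fiber_iff hF.2 w rfl).1 (AssLib.mem_support_of_mem_ass hw)

/-- Embedded components of `f^*E ⊗ F`. -/
theorem noEmbedded_tensE_iff [IsLocallyNoetherian X] [IsLocallyNoetherian Y] (hF : Coh.IsCoh F)
    (hflat : FlatMod.IsFlatOver f F) :
    AssSch.NoEmbedded (tensE f E F) ↔
      ∀ y ∈ AssSch.Ass E ∩ f.base '' CohB1.support F,
        (∀ y' ∈ AssSch.Ass E, y' ⤳ y → y' = y) ∧
          AssSch.NoEmbedded ((Scheme.Modules.pullback (f.fiberι y)).obj F) := by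
  constructor
  · rintro hT y ⟨hy, x₀, hx₀, hxy⟩
    refine ⟨fun y' hy' hyy => ?_, fun a ha b hb hba => ?_⟩
    · obtain ⟨w, hw, -⟩ := exists_ass_fiber hF hx₀ hxy
      have hwT := (mem_ass_tensE_fiberι hflat w).2 ⟨hy, hw⟩
      have hfw : f (f.fiberι y w) = y := FibDim.fiber_apply_fiberι f w
      obtain ⟨z, hz, hzw, hfz⟩ := exists_specializes_support hF.2 hF.1 (hflat _)
        (mem_support_of_ass_fiber hF hw) (hfw ▸ hyy)
      obtain ⟨w', hw', hw'z⟩ := exists_ass_fiber hF hz hfz
      have hw'T := (mem_ass_tensE_fiberι hflat w').2 ⟨hy', hw'⟩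
      have := congrArg f.base (hT _ hwT _ hw'T (hw'z.trans hzw))
      exact (FibDim.fiber_apply_fiberι f w').symm.trans (this.symm.trans hfw)
    · exact (f.fiberι y).isEmbedding.injective (hT _ ((mem_ass_tensE_fiberι hflat a).2 ⟨hy, ha⟩) _
        ((mem_ass_tensE_fiberι hflat b).2 ⟨hy, hb⟩) ((FibDim.fiberι_specializes_iff f _ _).2 hba))
  · intro h x hx x' hx' hsp
    obtain ⟨hy, hax⟩ := (mem_ass_tensE_asFiber hflat x).1 hx
    obtain ⟨hy', -⟩ := (mem_ass_tensE_asFiber hflat x').1 hx'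
    have hxs : x ∈ CohB1.support F := by
      simpa using mem_support_of_ass_fiber hF hax
    obtain ⟨hmax, hne⟩ := h (f x) ⟨hy, x, hxs, rfl⟩
    obtain ⟨a, ha⟩ := exists_fiber_point (hmax _ hy' (hsp.map f.continuous))
    rw [← ha] at hsp hx'
    have := hne _ hax a ((mem_ass_tensE_fiberι hflat a).1 hx').2
      ((FibDim.fiberι_specializes_iff f _ _).1 (by rwa [f.fiberι_asFiber]))
    rw [← ha, ← this, f.fiberι_asFiber]

end Groth.Agent.AssTensor5
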