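import Groth.Agent.AssTensor5.Reduced
import Groth.Agent.AssLib.OpenRestrict

/-!
# Transfer of reducedness of modules
-/

set_option autoImplicit false
set_option linter.style.haveILetI false
set_option backward.isDefEq.respectTransparency false
set_option backward.isDefEq.respectTransparency.types false

universe u

open AlgebraicGeometry CategoryTheory CategoryTheory.Limits IsLocalRing TensorProduct

namespace Groth.Agent.AssTensor5

theorem ass_congr {X : Scheme.{u}} {M N : X.Modules}
    (h : ∀ x, Nonempty (M.presheaf.stalk x ≃ₗ[X.presheaf.stalk x] N.presheaf.stalk x)) :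
    AssSch.Ass M = AssSch.Ass N := by
  ext x
  obtain ⟨e⟩ := h x
  rw [AssLib.mem_ass_def, AssLib.mem_ass_def, LinearEquiv.AssociatedPrimes.eq e]

theorem isReducedMod_congr {X : Scheme.{u}} {M N : X.Modules}
    (h : ∀ x, Nonempty (M.presheaf.stalk x ≃ₗ[X.presheaf.stalk x] N.presheaf.stalk x))
    (hM : AssSch.IsReducedMod M) : AssSch.IsReducedMod N := by
  unfold AssSch.IsReducedMod AssSch.NoEmbedded at hM ⊢
  rw [← ass_congr h]
  refine ⟨hM.1, fun x hx => ?_⟩
  obtain ⟨e⟩ := h x
  rw [← e.length_eq]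
  exact hM.2 x hx

theorem nonempty_stalk_tensor_pullback_unit {Z W : Scheme.{u}} (q : Z ⟶ W) (P : Z.Modules) (z : Z) :
    Nonempty ((CohB1.tensorMod P ((Scheme.Modules.pullback q).obj (Coh.structureModule W))).presheaf.stalk z
      ≃ₗ[Z.presheaf.stalk z] P.presheaf.stalk z) := by
  let L := Z.presheaf.stalk z
  let R := W.presheaf.stalk (q z)
  let Q := (Scheme.Modules.pullback q).obj (Coh.structureModule W)
  letI : Algebra R L := (q.stalkMap z).hom.toAlgebra
  obtain ⟨u⟩ : Nonempty (R ≃ₗ[R] (Coh.structureModule W).presheaf.stalk (q z)) :=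
    ⟨KFlatLib.stalkUnitEquiv (q z)⟩
  let i : Q.presheaf.stalk z ≃ₗ[L] L ⊗[R] (Coh.structureModule W).presheaf.stalk (q z) :=
    ((KFlatLib.stalkPullbackIso q z).app (Coh.structureModule W)).toLinearEquiv
  let t : P.presheaf.stalk z ⊗[L] Q.presheaf.stalk z ≃ₗ[L] (CohB1.tensorMod P Q).presheaf.stalk z :=
    (KFlatLib.stalkTensorIso z P Q).toLinearEquiv
  exact ⟨(t.symm.trans (TensorProduct.congr (LinearEquiv.refl L _)
    (i.trans ((AlgebraTensorModule.congr (LinearEquiv.refl L L) u.symm).trans (AlgebraTensorModule.rid R L L))))).trans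
    (TensorProduct.rid L _)⟩

theorem isReducedMod_of_pullback_iso {Z W : Scheme.{u}} (π : Z ⟶ W) [IsIso π] {F : W.Modules}
    (h : AssSch.IsReducedMod ((Scheme.Modules.pullback π).obj F)) : AssSch.IsReducedMod F := by
  refine ⟨fun x hx y hy hyx => ?_, fun x hx => ?_⟩
  · obtain ⟨a, rfl⟩ := π.surjective x
    obtain ⟨b, rfl⟩ := π.surjective y
    exact congrArg π (h.1 a ((AssLib.mem_ass_pullback_iff π F a).2 hx) b ((AssLib.mem_ass_pullback_iff π F b).2 hy)
      (π.isEmbedding.isInducing.specializes_iff.1 hyx))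
  · obtain ⟨a, rfl⟩ := π.surjective x
    exact (AssLib.length_pullback π F a).symm.trans (h.2 a ((AssLib.mem_ass_pullback_iff π F a).2 hx))

theorem isReducedMod_of_forall_bc {k : Type u} [Field k] {X : Scheme.{u}} (f : X ⟶ Spec (CommRingCat.of k))
    {F : X.Modules}
    (h : ∀ (k' : Type u) [Field k'] [Algebra k k'] [FiniteDimensional k k'] [IsPurelyInseparable k k'],
      AssSch.IsReducedMod ((Scheme.Modules.pullback (FBase.bcπ f k')).obj F)) : AssSch.IsReducedMod F := by
  haveI : IsIso (Spec.map (CommRingCat.ofHom (algebraMap k k))) := by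
    rw [show CommRingCat.ofHom (algebraMap k k) = 𝟙 (CommRingCat.of k) from rfl, Spec.map_id]
    infer_instance
  haveI : IsIso (FBase.bcπ f k) :=
    inferInstanceAs (IsIso (pullback.fst f (Spec.map (CommRingCat.ofHom (algebraMap k k)))))
  exact isReducedMod_of_pullback_iso (FBase.bcπ f k) (h k)

theorem isReducedMod_structureModule_field (K : Type u) [Field K] :
    AssSch.IsReducedMod (Coh.structureModule (Spec (CommRingCat.of K))) := by
  refine ⟨fun x _ y _ _ => Subsingleton.elim (α := PrimeSpectrum K) x y, fun x _ => ?_⟩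
  obtain ⟨e⟩ : Nonempty ((Spec (CommRingCat.of K)).presheaf.stalk x ≃ₗ[(Spec (CommRingCat.of K)).presheaf.stalk x]
      (Coh.structureModule (Spec (CommRingCat.of K))).presheaf.stalk x) := ⟨KFlatLib.stalkUnitEquiv x⟩
  rw [← e.length_eq]
  exact length_eq_one_of_isField (isField_stalk_field x)

end Groth.Agent.AssTensor5
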