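import Groth.Agent.AssTensor5.Alg
import Groth.Agent.AssLib.Basic
import Groth.Agent.Codepth5.Scheme
import Groth.Agent.KFlatLib.Scheme.TensorStalk
import Groth.Agent.FDescent.StalkFinite

/-!
# Associated points, supports and lengths of `f^*E ⊗ F` for a module `F` flat over the base
-/

set_option autoImplicit false
set_option linter.style.haveILetI false
set_option backward.isDefEq.respectTransparency false
set_option backward.isDefEq.respectTransparency.types false

universe u

open AlgebraicGeometry CategoryTheory IsLocalRing TensorProduct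

namespace Groth.Agent.AssTensor5

variable {X Y : Scheme.{u}} (f : X ⟶ Y) (E : Y.Modules) (F : X.Modules)

/-- `f^*E ⊗ F`. -/
noncomputable abbrev tensE : X.Modules := CohB1.tensorMod ((Scheme.Modules.pullback f).obj E) F

/-- The stalk algebra. -/
@[reducible] noncomputable def stalkAlgebra (x : X) : Algebra (Y.presheaf.stalk (f x)) (X.presheaf.stalk x) :=
  (f.stalkMap x).hom.toAlgebra

theorem nonempty_stalk_tensE (x : X) :
    letI := stalkAlgebra f x
    letI := FlatMod.moduleStalkOver f F x
    haveI : IsScalarTower (Y.presheaf.stalk (f x)) (X.presheaf.stalk x) (F.presheaf.stalk x) :=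
      .of_algebraMap_smul fun _ _ => rfl
    Nonempty ((tensE f E F).presheaf.stalk x ≃ₗ[X.presheaf.stalk x]
      F.presheaf.stalk x ⊗[Y.presheaf.stalk (f x)] E.presheaf.stalk (f x)) := by
  letI := stalkAlgebra f x
  letI := FlatMod.moduleStalkOver f F x
  haveI : IsScalarTower (Y.presheaf.stalk (f x)) (X.presheaf.stalk x) (F.presheaf.stalk x) :=
    .of_algebraMap_smul fun _ _ => rfl
  let L := X.presheaf.stalk x
  let R := Y.presheaf.stalk (f x)
  let i : ((Scheme.Modules.pullback f).obj E).presheaf.stalk x ≃ₗ[L] L ⊗[R] E.presheaf.stalk (f x) :=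
    ((KFlatLib.stalkPullbackIso f x).app E).toLinearEquiv
  let t : ((Scheme.Modules.pullback f).obj E).presheaf.stalk x ⊗[L] F.presheaf.stalk x ≃ₗ[L]
      (tensE f E F).presheaf.stalk x :=
    (KFlatLib.stalkTensorIso x ((Scheme.Modules.pullback f).obj E) F).toLinearEquiv
  exact ⟨((t.symm.trans (TensorProduct.comm L _ _)).trans (TensorProduct.congr (LinearEquiv.refl L _) i)).trans
    (AlgebraTensorModule.cancelBaseChange R L L (F.presheaf.stalk x) (E.presheaf.stalk (f x)))⟩

variable {f E F}

theorem mem_ass_tensE_iff [IsLocallyNoetherian Y] {x : X} (hflat : FlatMod.IsFlatOverAt f F x) :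
    x ∈ AssSch.Ass (tensE f E F) ↔ f x ∈ AssSch.Ass E ∧
      (maximalIdeal (X.presheaf.stalk x) ∈ associatedPrimes (X.presheaf.stalk x)
        (F.presheaf.stalk x ⧸ (Codepth5.fibIdeal f x • ⊤ : Submodule (X.presheaf.stalk x) (F.presheaf.stalk x)))) := by
  letI := stalkAlgebra f x
  letI := FlatMod.moduleStalkOver f F x
  haveI : IsScalarTower (Y.presheaf.stalk (f x)) (X.presheaf.stalk x) (F.presheaf.stalk x) :=
    .of_algebraMap_smul fun _ _ => rfl
  haveI : IsLocalHom (algebraMap (Y.presheaf.stalk (f x)) (X.presheaf.stalk x)) :=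
    inferInstanceAs (IsLocalHom (f.stalkMap x).hom)
  haveI : Module.Flat (Y.presheaf.stalk (f x)) (F.presheaf.stalk x) := hflat
  obtain ⟨e⟩ := nonempty_stalk_tensE f E F x
  rw [AssLib.mem_ass_def, AssLib.mem_ass_def, LinearEquiv.AssociatedPrimes.eq e]
  exact maximal_mem_ass_tensor_iff

theorem mem_ass_fiber_iff (F : X.Modules) {x : X} {s : Y} (w : ↥(f.fiber s)) (hw : f.fiberι s w = x) :
    w ∈ AssSch.Ass ((Scheme.Modules.pullback (f.fiberι s)).obj F) ↔
      (maximalIdeal (X.presheaf.stalk x) ∈ associatedPrimes (X.presheaf.stalk x)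
        (F.presheaf.stalk x ⧸ (Codepth5.fibIdeal f x • ⊤ : Submodule (X.presheaf.stalk x) (F.presheaf.stalk x)))) := by
  obtain ⟨σ, hσ, e, he⟩ := Codepth5.fibre_semi f F x s w hw
  exact (maximal_mem_ass_semi σ hσ e he).symm

theorem length_fiber (F : X.Modules) {x : X} {s : Y} (w : ↥(f.fiber s)) (hw : f.fiberι s w = x) :
    Module.length ((f.fiber s).presheaf.stalk w) (((Scheme.Modules.pullback (f.fiberι s)).obj F).presheaf.stalk w) =
      Module.length (X.presheaf.stalk x)
        (F.presheaf.stalk x ⧸ (Codepth5.fibIdeal f x • ⊤ : Submodule (X.presheaf.stalk x) (F.presheaf.stalk x))) := by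
  obtain ⟨σ, hσ, e, he⟩ := Codepth5.fibre_semi f F x s w hw
  exact (length_semi σ hσ e he).symm

/-- The fibre of a finite type module is nonzero where the module is. -/
theorem mem_support_fiber_iff (hF : CohB1.IsFT F) {x : X} {s : Y} (w : ↥(f.fiber s)) (hw : f.fiberι s w = x) :
    w ∈ CohB1.support ((Scheme.Modules.pullback (f.fiberι s)).obj F) ↔ x ∈ CohB1.support F := by
  haveI := hF
  haveI := FDescent.finite_stalk F x
  letI := stalkAlgebra f x
  letI := FlatMod.moduleStalkOver f F x
  haveI : IsScalarTower (Y.presheaf.stalk (f x)) (X.presheaf.stalk x) (F.presheaf.stalk x) :=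
    .of_algebraMap_smul fun _ _ => rfl
  haveI : IsLocalHom (algebraMap (Y.presheaf.stalk (f x)) (X.presheaf.stalk x)) :=
    inferInstanceAs (IsLocalHom (f.stalkMap x).hom)
  obtain ⟨σ, hσ, e, he⟩ := Codepth5.fibre_semi f F x s w hw
  show ¬ Subsingleton _ ↔ ¬ Subsingleton _
  rw [← e.toEquiv.subsingleton_congr, not_subsingleton_iff_nontrivial, not_subsingleton_iff_nontrivial]
  exact nontrivial_fibQuot_iff (R := Y.presheaf.stalk (f x))

theorem mem_support_tensE_iff (hF : CohB1.IsFT F) {x : X} (hflat : FlatMod.IsFlatOverAt f F x) :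
    x ∈ CohB1.support (tensE f E F) ↔ x ∈ CohB1.support F ∧ f x ∈ CohB1.support E := by
  haveI := hF
  haveI := FDescent.finite_stalk F x
  letI := stalkAlgebra f x
  letI := FlatMod.moduleStalkOver f F x
  haveI : IsScalarTower (Y.presheaf.stalk (f x)) (X.presheaf.stalk x) (F.presheaf.stalk x) :=
    .of_algebraMap_smul fun _ _ => rfl
  haveI : IsLocalHom (algebraMap (Y.presheaf.stalk (f x)) (X.presheaf.stalk x)) :=
    inferInstanceAs (IsLocalHom (f.stalkMap x).hom)
  haveI : Module.Flat (Y.presheaf.stalk (f x)) (F.presheaf.stalk x) := hflat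
  obtain ⟨e⟩ := nonempty_stalk_tensE f E F x
  show ¬ Subsingleton _ ↔ ¬ Subsingleton _ ∧ ¬ Subsingleton _
  rw [e.toEquiv.subsingleton_congr, not_subsingleton_iff_nontrivial, not_subsingleton_iff_nontrivial,
    not_subsingleton_iff_nontrivial]
  exact nontrivial_tensor_iff (S := X.presheaf.stalk x)

theorem length_tensE (hF : CohB1.IsFT F) {x : X} (hflat : FlatMod.IsFlatOverAt f F x)
    (hx : x ∈ CohB1.support F) {s : Y} (w : ↥(f.fiber s)) (hw : f.fiberι s w = x)
    (hfin : IsFiniteLength ((f.fiber s).presheaf.stalk w)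
      (((Scheme.Modules.pullback (f.fiberι s)).obj F).presheaf.stalk w)) :
    Module.length (X.presheaf.stalk x) ((tensE f E F).presheaf.stalk x) =
      Module.length (Y.presheaf.stalk (f x)) (E.presheaf.stalk (f x)) *
        Module.length ((f.fiber s).presheaf.stalk w)
          (((Scheme.Modules.pullback (f.fiberι s)).obj F).presheaf.stalk w) := by
  haveI := hF
  haveI := FDescent.finite_stalk F x
  letI := stalkAlgebra f x
  letI := FlatMod.moduleStalkOver f F x
  haveI : IsScalarTower (Y.presheaf.stalk (f x)) (X.presheaf.stalk x) (F.presheaf.stalk x) :=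
    .of_algebraMap_smul fun _ _ => rfl
  haveI : IsLocalHom (algebraMap (Y.presheaf.stalk (f x)) (X.presheaf.stalk x)) :=
    inferInstanceAs (IsLocalHom (f.stalkMap x).hom)
  haveI : Module.Flat (Y.presheaf.stalk (f x)) (F.presheaf.stalk x) := hflat
  haveI : Nontrivial (F.presheaf.stalk x) := not_subsingleton_iff_nontrivial.1 hx
  obtain ⟨e⟩ := nonempty_stalk_tensE f E F x
  rw [← Module.length_ne_top_iff, length_fiber F w hw] at hfin
  rw [e.length_eq, length_fiber F w hw]
  exact length_tensor (Module.length_ne_top_iff.1 hfin)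

/-- Going down along the support of a flat module of finite type. -/
theorem exists_specializes_support (hF : CohB1.IsFT F) (hFq : Coh.IsQCoh F) {x : X}
    (hflat : FlatMod.IsFlatOverAt f F x) (hx : x ∈ CohB1.support F) {y : Y} (hy : y ⤳ f x) :
    ∃ z ∈ CohB1.support F, z ⤳ x ∧ f z = y := by
  haveI := hF
  haveI := FDescent.finite_stalk F x
  letI := stalkAlgebra f x
  letI := FlatMod.moduleStalkOver f F x
  haveI : IsScalarTower (Y.presheaf.stalk (f x)) (X.presheaf.stalk x) (F.presheaf.stalk x) :=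
    .of_algebraMap_smul fun _ _ => rfl
  haveI : IsLocalHom (algebraMap (Y.presheaf.stalk (f x)) (X.presheaf.stalk x)) :=
    inferInstanceAs (IsLocalHom (f.stalkMap x).hom)
  haveI : Module.Flat (Y.presheaf.stalk (f x)) (F.presheaf.stalk x) := hflat
  haveI : Nontrivial (F.presheaf.stalk x) := not_subsingleton_iff_nontrivial.1 hx
  have hy' : y ∈ Set.range (Y.fromSpecStalk (f x)) := by
    rw [Scheme.range_fromSpecStalk]
    exact hy
  obtain ⟨p, rfl⟩ := hy'
  obtain ⟨q, hq, hqp⟩ := exists_mem_support_over (S := X.presheaf.stalk x) (N := F.presheaf.stalk x) p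
  have hzx : X.fromSpecStalk x q ⤳ x := by
    have : X.fromSpecStalk x q ∈ Set.range (X.fromSpecStalk x) := ⟨q, rfl⟩
    rwa [Scheme.range_fromSpecStalk] at this
  refine ⟨X.fromSpecStalk x q, ?_, hzx, ?_⟩
  · obtain ⟨U, hU, hxU, -⟩ := exists_isAffineOpen_mem_and_subset (x := x) (U := ⊤) trivial
    have hzU : X.fromSpecStalk x q ∈ U := hzx.mem_open U.isOpen hxU
    rw [← QCoh.mem_moduleSupport_iff hFq hU hzU]
    letI := QCoh.stalkAlg (X := X) hxU
    letI := QCoh.stalkModule F hxU
    haveI := QCoh.isScalarTower_stalk F hxU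
    haveI := QCoh.isLocalizedModule_germLin hFq hU hxU
    have hprime : (hU.primeIdealOf ⟨X.fromSpecStalk x q, hzU⟩) =
        PrimeSpectrum.comap (X.presheaf.germ U x hxU).hom q := by
      apply hU.fromSpec.isOpenEmbedding.injective
      rw [hU.fromSpec_primeIdealOf]
      show X.fromSpecStalk x q = hU.fromSpec (PrimeSpectrum.comap (X.presheaf.germ U x hxU).hom q)
      rw [← hU.fromSpecStalk_eq_fromSpecStalk hxU]
      rfl
    rw [hprime, Module.mem_support_iff']
    obtain ⟨v, hv⟩ := Module.mem_support_iff'.1 hq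
    obtain ⟨⟨m, s⟩, hms⟩ := IsLocalizedModule.surj (hU.primeIdealOf ⟨x, hxU⟩).asIdeal.primeCompl
      (QCoh.germLin F hxU) v
    refine ⟨m, fun r hr h0 => ?_⟩
    have h2 := congrArg (r • ·) hms
    simp only [← map_smul, h0, map_zero] at h2
    replace h2 : (r * (s : Γ(X, U))) • v = 0 := (mul_smul _ _ v).trans h2
    rw [← algebraMap_smul (X.presheaf.stalk x) (r * (s : Γ(X, U))) v, map_mul] at h2
    refine hv _ (fun hmem => ?_) h2
    rcases q.isPrime.mem_or_mem hmem with h1 | h1
    · exact hr h1
    · exact s.2 (le_of_le_of_eq (Ideal.comap_mono (le_maximalIdeal q.isPrime.ne_top))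
        (AssLib.comap_maximalIdeal_stalk hU hxU) h1)
  · rw [← Scheme.Hom.comp_apply, ← Scheme.SpecMap_stalkMap_fromSpecStalk, Scheme.Hom.comp_apply]
    congr 1

end Groth.Agent.AssTensor5
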